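import Groth.Prelude.Def_LambdaRing

/-!
# λ-homomorphisms in the elementary sense

For a ring homomorphism `q : K →+* K'` between λ-rings (any universes):
* `lam_sub_closed`: the set of `x` with `q (λ^i x) = λ^i (q x)` for all `i` is closed under differences;
* `map_gamma`: then `q (γ^k x) = γ^k (q x)`;
* `mem_gammaFiltration_map`: if moreover `q` respects the augmentations, then `q (F^k K) ⊆ F^k K'`.
-/

set_option autoImplicit false

universe v w

open LambdaRing

namespace Groth.Agent.Krr.H482.LamAlg

variable {K : Type v} [CommRing K] [LambdaOps K] {K' : Type w} [CommRing K'] [LambdaOps K']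

theorem lamSeries_add (x y : K) : lamSeries (x + y) = lamSeries x * lamSeries y := by
  ext n
  rw [PowerSeries.coeff_mul, Finset.Nat.sum_antidiagonal_eq_sum_range_succ_mk]
  simp only [lamSeries, PowerSeries.coeff_mk]
  exact LambdaOps.lam_add n x y

theorem constantCoeff_lamSeries (x : K) : PowerSeries.constantCoeff (lamSeries x) = 1 := by
  rw [← PowerSeries.coeff_zero_eq_constantCoeff_apply, lamSeries, PowerSeries.coeff_mk]
  exact LambdaOps.lam_zero x

theorem isUnit_lamSeries (x : K) : IsUnit (lamSeries x) := by
  rw [PowerSeries.isUnit_iff_constantCoeff, constantCoeff_lamSeries]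
  exact isUnit_one

/-- `q` commutes with all `λ^i` at `x`. -/
def CommAt (q : K →+* K') (x : K) : Prop := ∀ i, q (LambdaOps.lam i x) = LambdaOps.lam i (q x)

theorem commAt_iff (q : K →+* K') (x : K) :
    CommAt q x ↔ PowerSeries.map q (lamSeries x) = lamSeries (q x) := by
  constructor
  · intro h
    ext n
    simpa [lamSeries] using h n
  · intro h i
    have := congrArg (PowerSeries.coeff i) h
    simpa [lamSeries] using this

theorem CommAt.add {q : K →+* K'} {x y : K} (hx : CommAt q x) (hy : CommAt q y) :
    CommAt q (x + y) := by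
  rw [commAt_iff] at *
  rw [lamSeries_add, map_mul, hx, hy, map_add, lamSeries_add]

theorem CommAt.sub {q : K →+* K'} {x y : K} (hx : CommAt q x) (hy : CommAt q y) :
    CommAt q (x - y) := by
  rw [commAt_iff] at *
  have h1 : lamSeries x = lamSeries (x - y) * lamSeries y := by
    rw [← lamSeries_add, sub_add_cancel]
  have h2 : lamSeries (q x) = lamSeries (q (x - y)) * lamSeries (q y) := by
    rw [← lamSeries_add, ← map_add, sub_add_cancel]
  rw [h1, map_mul, h2, hy] at hx
  exact (isUnit_lamSeries (q y)).mul_left_injective hx

variable {q : K →+* K'}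

theorem map_gamma (hq : ∀ x, CommAt q x) (k : ℕ) (x : K) : q (gamma k x) = gamma k (q x) := by
  unfold gamma
  split_ifs with hk
  · exact map_one q
  · rw [map_sum]
    refine Finset.sum_congr rfl fun j _ => ?_
    rw [map_mul, map_natCast]
    split_ifs with hj
    · rw [map_zero]
    · rw [hq x j]

theorem mem_gammaFiltration_map (hq : ∀ x, CommAt q x) {P : PosStructure K} {P' : PosStructure K'}
    (haug : ∀ x, P'.aug (q x) = P.aug x) (k : ℕ) {x : K} (hx : x ∈ gammaFiltration P k) :
    q x ∈ gammaFiltration P' k := by
  unfold gammaFiltration at hx ⊢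
  split_ifs at hx ⊢ with hk
  · exact AddSubgroup.mem_top _
  · induction hx using AddSubgroup.closure_induction with
    | mem y hy =>
      obtain ⟨l, hl, hsum, rfl⟩ := hy
      refine AddSubgroup.subset_closure ⟨l.map fun p => (p.1, q p.2), ?_, ?_, ?_⟩
      · intro p hp
        obtain ⟨p', hp', rfl⟩ := List.mem_map.mp hp
        exact (haug _).trans (hl p' hp')
      · rw [List.map_map]
        exact hsum
      · rw [map_list_prod, List.map_map, List.map_map]
        congr 1
        refine List.map_congr_left fun p _ => ?_
        exact map_gamma hq p.1 p.2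
    | zero => rw [map_zero]; exact zero_mem _
    | add x y _ _ hx hy => rw [map_add]; exact add_mem hx hy
    | neg x _ hx => rw [map_neg]; exact neg_mem hx

theorem gammaFiltration_le_comap (hq : ∀ x, CommAt q x) {P : PosStructure K} {P' : PosStructure K'}
    (haug : ∀ x, P'.aug (q x) = P.aug x) (k : ℕ) :
    gammaFiltration P k ≤ (gammaFiltration P' k).comap q.toAddMonoidHom :=
  fun _ hx => mem_gammaFiltration_map hq haug k hx

/-- If `s ∘ q = id` and both respect λ-operations and augmentations then `F^k K' ∩ K = F^k K`. -/
theorem comap_gammaFiltration_of_retraction {s : K' →+* K} (hq : ∀ x, CommAt q x) (hs : ∀ x, CommAt s x)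
    {P : PosStructure K} {P' : PosStructure K'}
    (haug : ∀ x, P'.aug (q x) = P.aug x) (haug' : ∀ x, P.aug (s x) = P'.aug x)
    (hsq : ∀ x, s (q x) = x) (k : ℕ) :
    (gammaFiltration P' k).comap q.toAddMonoidHom = gammaFiltration P k := by
  refine le_antisymm (fun x hx => ?_) (gammaFiltration_le_comap hq haug k)
  have h : s (q x) ∈ gammaFiltration P k := mem_gammaFiltration_map hs haug' k hx
  rwa [hsq] at h

end Groth.Agent.Krr.H482.LamAlg
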