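import Groth.Agent.Krr.H482.PullTens
import Groth.Agent.Krr.H482.LamAlg
import Groth.Agent.Sga67.KvbRing
import Groth.Agent.PerfB.FlatPull
import Groth.Agent.Krr.H496.PullK0

/-!
# The pull-back on models of the λ-ring K(X)

For `f : X ⟶ Y`, models `(KX, PX, φX)`, `(KY, PY, φY)` of `K(X)`, `K(Y)` and `q : KY →+ KX` with
`KRR.IsPull f φY φX q`:
* `pull_one`, `pull_mul`, `pullRingHom`;
* `pull_aug`, `pull_pos`;
* `commAt_pull` (with the sheaf-level facts on exterior powers as hypotheses `hext`, `hpull`).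
Also `isPull_comp`, `isPull_id`, `isPull_unique`.
-/

set_option autoImplicit false

open CategoryTheory CategoryTheory.Limits AlgebraicGeometry
open scoped ZeroObject

universe v w t u

namespace Groth.Agent.Krr.H482.PullLambda

open KRR Groth.Agent.Sga67.LocBasis Groth.Agent.Sga67.ExtClass Groth.Agent.Krr.H482.LamAlg
  Groth.Agent.Sga67.TensorOps

/-- Isomorphic finite locally free modules have the same class. -/
theorem cl_iso {X : Scheme.{u}} {M N : X.Modules} (e : M ≅ N) (h : FlatMod.IsFinLocFree M) :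
    cl X M = cl X N :=
  Groth.Agent.Sga67.KvbRing.c_iso e h

theorem isFinLocFree_of_rank {X : Scheme.{u}} {M : X.Modules} {r : ℕ}
    (h : FlatMod.IsFinLocFreeOfRank r M) : FlatMod.IsFinLocFree M := fun x => by
  obtain ⟨V, hx, e⟩ := h x
  exact ⟨V, r, hx, e⟩

theorem isFinLocFree_pullback {X Y : Scheme.{u}} (f : X ⟶ Y) {M : Y.Modules}
    (hM : FlatMod.IsFinLocFree M) : FlatMod.IsFinLocFree ((Scheme.Modules.pullback f).obj M) :=
  Groth.Agent.PerfB.FlatPull.isFinLocFree_pullback f hM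

theorem isFinLocFreeOfRank_pullback {X Y : Scheme.{u}} {r : ℕ} (f : X ⟶ Y) {M : Y.Modules}
    (hM : FlatMod.IsFinLocFreeOfRank r M) :
    FlatMod.IsFinLocFreeOfRank r ((Scheme.Modules.pullback f).obj M) := by
  intro x
  obtain ⟨V, hV, ⟨e⟩⟩ := hM (f x)
  exact ⟨f ⁻¹ᵁ V, hV, ⟨(Groth.Agent.PerfB.FlatPull.pullbackRestrict f V).app M ≪≫
    (Scheme.Modules.pullback (f ∣_ V)).mapIso e ≪≫
      Groth.Agent.PerfB.FlatPull.pullbackFreeMod _ r⟩⟩

section Gen

variable {X : Scheme.{u}} {K : Type v} [CommRing K] [LambdaRing.LambdaOps K]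
  {P : LambdaRing.PosStructure K} {φ : SGA6.Kvb X →+ K}

/-- Every element of a model is a difference of classes of bundles of constant positive rank. -/
theorem exists_eq_sub (h : IsModel X K P φ) (x : K) : ∃ (m n : ℕ) (E F : X.Modules), 1 ≤ m ∧ 1 ≤ n ∧
    FlatMod.IsFinLocFreeOfRank m E ∧ FlatMod.IsFinLocFreeOfRank n F ∧
      x = φ (cl X E) - φ (cl X F) := by
  obtain ⟨e, f, he, hf, rfl⟩ := P.exists_sub x
  obtain ⟨m, E, hm, hE, rfl⟩ := (h.mem_pos_iff e).mp he
  obtain ⟨n, F, hn, hF, rfl⟩ := (h.mem_pos_iff f).mp hf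
  exact ⟨m, n, E, F, hm, hn, hE, hF, rfl⟩

/-- Induction principle: a property of elements of a model closed under differences and true for classes of
bundles of constant positive rank is always true. -/
theorem model_induction (h : IsModel X K P φ) {C : K → Prop}
    (hcl : ∀ (m : ℕ) (E : X.Modules), 1 ≤ m → FlatMod.IsFinLocFreeOfRank m E → C (φ (cl X E)))
    (hsub : ∀ x y, C x → C y → C (x - y)) (x : K) : C x := by
  obtain ⟨m, n, E, F, hm, hn, hE, hF, rfl⟩ := exists_eq_sub h x
  exact hsub _ _ (hcl m E hm hE) (hcl n F hn hF)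

/-- Additive maps out of a model agree if they agree on classes of bundles of constant rank. -/
theorem model_hom_ext (h : IsModel X K P φ) {A : Type*} [AddCommGroup A] {a b : K →+ A}
    (hab : ∀ (m : ℕ) (E : X.Modules), 1 ≤ m → FlatMod.IsFinLocFreeOfRank m E →
      a (φ (cl X E)) = b (φ (cl X E))) : a = b := by
  refine DFunLike.ext _ _ fun x => ?_
  refine model_induction h (C := fun x => a x = b x) hab (fun x y hx hy => ?_) x
  rw [map_sub, map_sub, hx, hy]

end Gen

section Basic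

variable {X Y Z : Scheme.{u}} {f : X ⟶ Y} {g : Y ⟶ Z}
  {KX : Type v} [CommRing KX] {φX : SGA6.Kvb X →+ KX}
  {KY : Type w} [CommRing KY] {φY : SGA6.Kvb Y →+ KY}
  {KZ : Type t} [CommRing KZ] {φZ : SGA6.Kvb Z →+ KZ}
  {q : KY →+ KX} {r : KZ →+ KY}

theorem isPull_unique [LambdaRing.LambdaOps KY] {PY : LambdaRing.PosStructure KY}
    (hKY : IsModel Y KY PY φY) {q' : KY →+ KX} (hq : IsPull f φY φX q)
    (hq' : IsPull f φY φX q') : q = q' := by
  refine model_hom_ext hKY fun m E _ hE => ?_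
  rw [hq E (isFinLocFree_of_rank hE), hq' E (isFinLocFree_of_rank hE)]

/-- Existence of the pull-back, for any morphism. -/
theorem exists_isPull (f : X ⟶ Y) (hφY : Function.Bijective φY) (φX : SGA6.Kvb X →+ KX) :
    ∃ q : KY →+ KX, IsPull f φY φX q := by
  let e : SGA6.Kvb Y ≃+ KY := AddEquiv.ofBijective φY hφY
  refine ⟨(φX.comp (Groth.Agent.Krr.H496.PullK0.pullK0 f)).comp e.symm.toAddMonoidHom,
    fun E hE => ?_⟩
  have h1 : e.symm (φY (cl Y E)) = cl Y E := e.symm_apply_apply (cl Y E)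
  change φX (Groth.Agent.Krr.H496.PullK0.pullK0 f (e.symm (φY (cl Y E)))) = _
  rw [h1]
  exact congrArg φX (Groth.Agent.Krr.H496.PullK0.pullK0_cl f hE)

theorem isPull_id {KX' : Type w} [CommRing KX'] {φX' : SGA6.Kvb X →+ KX'} {q : KX →+ KX'}
    (hq : ∀ E : X.Modules, FlatMod.IsFinLocFree E → q (φX (cl X E)) = φX' (cl X E)) :
    IsPull (𝟙 X) φX φX' q := by
  intro E hE
  rw [hq E hE]
  exact congrArg φX' (cl_iso ((Scheme.Modules.pullbackId X).app E)
    (isFinLocFree_pullback (𝟙 X) hE)).symm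

theorem isPull_comp (hq : IsPull f φY φX q) (hr : IsPull g φZ φY r) :
    IsPull (f ≫ g) φZ φX (q.comp r) := by
  intro E hE
  rw [AddMonoidHom.comp_apply, hr E hE, hq _ (isFinLocFree_pullback g hE)]
  exact congrArg φX (cl_iso ((Scheme.Modules.pullbackComp f g).app E)
      (isFinLocFree_pullback f (isFinLocFree_pullback g hE)))

theorem isPull_congr {f' : X ⟶ Y} (h : f = f') (hq : IsPull f φY φX q) : IsPull f' φY φX q := by
  subst h
  exact hq

end Basic

section Pull

variable {X Y : Scheme.{u}} {f : X ⟶ Y}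
  {KX : Type v} [CommRing KX] [LambdaRing.LambdaOps KX] {PX : LambdaRing.PosStructure KX}
  {φX : SGA6.Kvb X →+ KX}
  {KY : Type w} [CommRing KY] [LambdaRing.LambdaOps KY] {PY : LambdaRing.PosStructure KY}
  {φY : SGA6.Kvb Y →+ KY} {q : KY →+ KX}

theorem pull_one (hKX : IsModel X KX PX φX) (hKY : IsModel Y KY PY φY) (hq : IsPull f φY φX q) :
    q 1 = 1 := by
  rw [← hKY.map_one, hq _ isFinLocFree_structureModule, ← hKX.map_one,
    cl_iso (PullTens.pullUnitIso f) (isFinLocFree_pullback f isFinLocFree_structureModule)]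

theorem pull_mul (hKX : IsModel X KX PX φX) (hKY : IsModel Y KY PY φY) (hq : IsPull f φY φX q)
    (x y : KY) : q (x * y) = q x * q y := by
  refine model_induction hKY (C := fun x => q (x * y) = q x * q y) (fun m E _ hE => ?_)
    (fun a b ha hb => ?_) x
  · refine model_induction hKY (C := fun y => q (φY (cl Y E) * y) = q (φY (cl Y E)) * q y)
      (fun n F _ hF => ?_) (fun a b ha hb => ?_) y
    · have hE' := isFinLocFree_of_rank hE
      have hF' := isFinLocFree_of_rank hF
      have hEF : FlatMod.IsFinLocFree (((DCoh.tensorBi (X := Y)).obj E).obj F) :=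
        isFinLocFree_tensorMod hE' hF'
      rw [hKY.map_mul E F hE' hF', hq _ hEF, hq E hE', hq F hF',
        hKX.map_mul _ _ (isFinLocFree_pullback f hE') (isFinLocFree_pullback f hF'),
        cl_iso (PullTens.pullTensorIso f E F) (isFinLocFree_pullback f hEF)]
    · rw [mul_sub, map_sub, ha, hb, map_sub, mul_sub]
  · rw [sub_mul, map_sub, ha, hb, map_sub, sub_mul]

/-- The pull-back as a ring homomorphism. -/
def pullRingHom (hKX : IsModel X KX PX φX) (hKY : IsModel Y KY PY φY) (hq : IsPull f φY φX q) :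
    KY →+* KX :=
  { q with
    map_one' := pull_one hKX hKY hq
    map_mul' := pull_mul hKX hKY hq }

@[simp] theorem pullRingHom_apply (hKX : IsModel X KX PX φX) (hKY : IsModel Y KY PY φY)
    (hq : IsPull f φY φX q) (x : KY) : pullRingHom hKX hKY hq x = q x := rfl

@[simp] theorem pullRingHom_toAddMonoidHom (hKX : IsModel X KX PX φX) (hKY : IsModel Y KY PY φY)
    (hq : IsPull f φY φX q) : (pullRingHom hKX hKY hq).toAddMonoidHom = q := rfl

theorem pull_aug (hKX : IsModel X KX PX φX) (hKY : IsModel Y KY PY φY) (hq : IsPull f φY φX q)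
    (x : KY) : PX.aug (q x) = PY.aug x := by
  refine model_induction hKY (C := fun x => PX.aug (q x) = PY.aug x) (fun m E _ hE => ?_)
    (fun a b ha hb => ?_) x
  · rw [hq E (isFinLocFree_of_rank hE), hKX.aug_cl m _ (isFinLocFreeOfRank_pullback f hE),
      hKY.aug_cl m E hE]
  · rw [map_sub, map_sub, ha, hb, map_sub]

theorem pull_pos (hKX : IsModel X KX PX φX) (hKY : IsModel Y KY PY φY) (hq : IsPull f φY φX q)
    {x : KY} (hx : x ∈ PY.pos) : q x ∈ PX.pos := by
  obtain ⟨n, E, hn, hE, rfl⟩ := (hKY.mem_pos_iff x).mp hx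
  rw [hq E (isFinLocFree_of_rank hE)]
  exact (hKX.mem_pos_iff _).mpr ⟨n, _, hn, isFinLocFreeOfRank_pullback f hE, rfl⟩

theorem pull_isLine (hKX : IsModel X KX PX φX) (hKY : IsModel Y KY PY φY) (hq : IsPull f φY φX q)
    {x : KY} (hx : PY.IsLine x) : PX.IsLine (q x) :=
  ⟨pull_pos hKX hKY hq hx.1, (pull_aug hKX hKY hq x).trans hx.2⟩

/-- The pull-back commutes with the λ-operations, given the sheaf-level facts. -/
theorem commAt_pull' (hKX : IsModel X KX PX φX) (hKY : IsModel Y KY PY φY) (hq : IsPull f φY φX q)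
    (hext : ∀ (i : ℕ) (E : Y.Modules), FlatMod.IsFinLocFree E → ∃ L : Y.Modules, ExtPow.IsExtPow i E L)
    (hpull : ∀ (i : ℕ) (E L : Y.Modules), FlatMod.IsFinLocFree E → ExtPow.IsExtPow i E L →
      ExtPow.IsExtPow i ((Scheme.Modules.pullback f).obj E) ((Scheme.Modules.pullback f).obj L))
    (x : KY) : CommAt (pullRingHom hKX hKY hq) x := by
  refine model_induction hKY (C := fun x => CommAt (pullRingHom hKX hKY hq) x)
    (fun m E _ hE => ?_) (fun a b ha hb => ha.sub hb) x
  intro i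
  have hE' := isFinLocFree_of_rank hE
  obtain ⟨L, hL⟩ := hext i E hE'
  have hL' : FlatMod.IsFinLocFree L := isFinLocFree_of_isExtPow hE' hL
  rw [pullRingHom_apply, pullRingHom_apply, hKY.map_lam i E L hE' hL' hL, hq L hL', hq E hE',
    hKX.map_lam i _ _ (isFinLocFree_pullback f hE') (isFinLocFree_pullback f hL')
      (hpull i E L hE' hL)]

end Pull

end Groth.Agent.Krr.H482.PullLambda
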