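import Groth.Prelude.Def_CohB1
import Mathlib.AlgebraicGeometry.ProjectiveSpectrum.Basic

/-!
# Sections of `P^n_Y ⟶ Y`

`sect n X : X ⟶ P^n_X` is the section given by the point `[1 : 0 : … : 0]`; `sect_toBase`.
-/

set_option autoImplicit false

open AlgebraicGeometry CategoryTheory CategoryTheory.Limits

universe u

namespace Groth.Agent.Krr.H482.PnSect

/-- The coefficient ring ℤ, lifted to the ambient universe. -/
abbrev R0 : Type u := ULift.{u} ℤ

variable (n : ℕ)

/-- The homogeneous coordinate T_0. -/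
noncomputable abbrev T0 : MvPolynomial (Fin (n + 1)) R0.{u} := MvPolynomial.X 0

theorem X_mem : T0.{u} n ∈ CohB1.polyGrading n R0.{u} 1 :=
  (MvPolynomial.mem_homogeneousSubmodule 1 _).mpr (MvPolynomial.isHomogeneous_X R0 0)

/-- Evaluation of degree-zero fractions with denominator a power of T_0 at the point T_0 = 1, T_j = 0 (j ≠ 0). -/
noncomputable def evalAway :
    HomogeneousLocalization.Away (CohB1.polyGrading n R0.{u}) (T0 n) →+* R0.{u} :=
  (IsLocalization.Away.lift (S := Localization.Away (T0.{u} n)) (T0.{u} n)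
      (g := (MvPolynomial.aeval (Pi.single 0 (1 : R0.{u}) : Fin (n + 1) → R0)).toRingHom)
      (by simp)).comp
    (algebraMap (HomogeneousLocalization.Away (CohB1.polyGrading n R0.{u}) (T0 n))
      (Localization.Away (T0.{u} n)))

/-- The ℤ-point `[1 : 0 : … : 0]` of P^n_ℤ. -/
noncomputable def point : Spec (CommRingCat.of R0.{u}) ⟶ CohB1.ProjSpace n R0.{u} :=
  Spec.map (CommRingCat.ofHom (evalAway n)) ≫
    Proj.awayι (CohB1.polyGrading n R0.{u}) (T0 n) (X_mem n) one_pos

/-- The section X → P^n_X induced by `point n`. -/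
noncomputable def sect (X : Scheme.{u}) : X ⟶ CohB1.ProjSpaceOver n X :=
  pullback.lift (specULiftZIsTerminal.from X ≫ point n) (𝟙 X)
    (specULiftZIsTerminal.hom_ext _ _)

theorem sect_toBase (X : Scheme.{u}) : sect n X ≫ CohB1.ProjSpaceOver.toBase n X = 𝟙 X :=
  pullback.lift_snd _ _ _

end Groth.Agent.Krr.H482.PnSect
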