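import Groth.Agent.Krr.H482.PullFinal0
import Groth.Agent.Krr.H495.ExtExist

/-!
# The pull-back on models of the λ-ring K(X) is a λ-homomorphism

For `hq : KRR.IsPull f φY φX q` (models `hKX`, `hKY`):
* `commAt_pull`: `q (λ^i x) = λ^i (q x)`, as `CommAt (pullRingHom hKX hKY hq) x`; `pull_lam`, `pull_gamma`;
* `pull_mem_gammaFiltration`: `q (F^k K(Y)) ⊆ F^k K(X)`;
* `isExtPow_pullback`: `f^*` commutes with exterior powers of finite locally free modules.
* `isLambdaHom_pull` (same universe); `comap_gammaFiltration_of_section`: `F^k K(X) ∩ K(Y) = F^k K(Y)` if `f` has a section.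
-/

set_option autoImplicit false

open CategoryTheory CategoryTheory.Limits AlgebraicGeometry

universe v w u

namespace Groth.Agent.Krr.H482.PullFinal

open KRR Groth.Agent.Krr.H482.LamAlg Groth.Agent.Krr.H482.PullLambda

section

variable {X Y : Scheme.{u}} {f : X ⟶ Y}
  {KX : Type v} [CommRing KX] [LambdaRing.LambdaOps KX] {PX : LambdaRing.PosStructure KX}
  {φX : SGA6.Kvb X →+ KX}
  {KY : Type w} [CommRing KY] [LambdaRing.LambdaOps KY] {PY : LambdaRing.PosStructure KY}
  {φY : SGA6.Kvb Y →+ KY} {q : KY →+ KX}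

theorem exists_isExtPow' (X : Scheme.{u}) (i : ℕ) (E : X.Modules) (hE : FlatMod.IsFinLocFree E) :
    ∃ L : X.Modules, ExtPow.IsExtPow i E L := by
  obtain ⟨L, -, hL⟩ := Groth.Agent.Krr.H495.ExtExist.exists_isExtPow i E hE
  exact ⟨L, hL⟩

/-- Pull-back commutes with exterior powers of finite locally free modules. -/
theorem isExtPow_pullback (f : X ⟶ Y) {i : ℕ} {E L : Y.Modules} (hE : FlatMod.IsFinLocFree E)
    (hL : ExtPow.IsExtPow i E L) :
    ExtPow.IsExtPow i ((Scheme.Modules.pullback f).obj E) ((Scheme.Modules.pullback f).obj L) :=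
  Groth.Agent.Krr.H487.ExtPull.isExtPow_pullback f hE hL
    (exists_isExtPow' X i _ (isFinLocFree_pullback f hE))

/-- The pull-back commutes with the λ-operations. -/
theorem commAt_pull (hKX : IsModel X KX PX φX) (hKY : IsModel Y KY PY φY) (hq : IsPull f φY φX q)
    (x : KY) : CommAt (pullRingHom hKX hKY hq) x :=
  Groth.Agent.Krr.H482.PullFinal0.commAt_pull0 hKX hKY hq (exists_isExtPow' X) (exists_isExtPow' Y) x

theorem pull_lam (hKX : IsModel X KX PX φX) (hKY : IsModel Y KY PY φY) (hq : IsPull f φY φX q)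
    (i : ℕ) (x : KY) : q (LambdaRing.LambdaOps.lam i x) = LambdaRing.LambdaOps.lam i (q x) :=
  commAt_pull hKX hKY hq x i

theorem pull_gamma (hKX : IsModel X KX PX φX) (hKY : IsModel Y KY PY φY) (hq : IsPull f φY φX q)
    (k : ℕ) (x : KY) : q (LambdaRing.gamma k x) = LambdaRing.gamma k (q x) :=
  map_gamma (commAt_pull hKX hKY hq) k x

/-- `q (F^k K(Y)) ⊆ F^k K(X)`. -/
theorem pull_mem_gammaFiltration (hKX : IsModel X KX PX φX) (hKY : IsModel Y KY PY φY)
    (hq : IsPull f φY φX q) (k : ℕ) {x : KY} (hx : x ∈ LambdaRing.gammaFiltration PY k) :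
    q x ∈ LambdaRing.gammaFiltration PX k :=
  mem_gammaFiltration_map (commAt_pull hKX hKY hq) (pull_aug hKX hKY hq) k hx

/-- If `f` has a section then `F^k K(X) ∩ K(Y) = F^k K(Y)`. -/
theorem comap_gammaFiltration_of_section (hKX : IsModel X KX PX φX) (hKY : IsModel Y KY PY φY)
    (hq : IsPull f φY φX q) (s : Y ⟶ X) (hs : s ≫ f = 𝟙 Y) (k : ℕ) :
    (LambdaRing.gammaFiltration PX k).comap q = LambdaRing.gammaFiltration PY k := by
  obtain ⟨t, ht⟩ := exists_isPull s hKX.bijective φY
  have htq : ∀ x, t (q x) = x := by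
    have h1 : IsPull (𝟙 Y) φY φY (t.comp q) := isPull_congr hs (isPull_comp ht hq)
    have h2 : t.comp q = AddMonoidHom.id KY :=
      isPull_unique hKY h1 (isPull_id fun E _ => rfl)
    exact fun x => DFunLike.congr_fun h2 x
  exact comap_gammaFiltration_of_retraction (q := pullRingHom hKX hKY hq)
    (s := pullRingHom hKY hKX ht) (commAt_pull hKX hKY hq) (commAt_pull hKY hKX ht)
    (pull_aug hKX hKY hq) (pull_aug hKY hKX ht) htq k

end

section

variable {X Y : Scheme.{u}} {f : X ⟶ Y}
  {KX : Type v} [CommRing KX] [LambdaRing.LambdaOps KX] {PX : LambdaRing.PosStructure KX}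
  {φX : SGA6.Kvb X →+ KX}
  {KY : Type v} [CommRing KY] [LambdaRing.LambdaOps KY] {PY : LambdaRing.PosStructure KY}
  {φY : SGA6.Kvb Y →+ KY} {q : KY →+ KX}

/-- The pull-back is a λ-homomorphism (models in the same universe). -/
theorem isLambdaHom_pull (hKX : IsModel X KX PX φX) (hKY : IsModel Y KY PY φY)
    (hq : IsPull f φY φX q) : LambdaRing.IsLambdaHom (pullRingHom hKX hKY hq) :=
  fun i x => commAt_pull hKX hKY hq x i

/-- An injective pull-back is an extension of λ-rings with positive structure. -/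
theorem isExtension_pull (hKX : IsModel X KX PX φX) (hKY : IsModel Y KY PY φY)
    (hq : IsPull f φY φX q) (hinj : Function.Injective q) :
    LambdaRing.IsExtension PY PX (pullRingHom hKX hKY hq) where
  isLambdaHom := isLambdaHom_pull hKX hKY hq
  injective := hinj
  aug_comp := pull_aug hKX hKY hq
  pos_subset := fun _ he => pull_pos hKX hKY hq he

end

end Groth.Agent.Krr.H482.PullFinal
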