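import Groth.Agent.Dcoh.MonPull292
import Groth.Prelude.Def_KRR

/-!
# `f^*(M ⊗ N) ≅ f^*M ⊗ f^*N` and `f^* O ≅ O`, in the form used by `KRR.IsModel`
-/

set_option autoImplicit false

open CategoryTheory MonoidalCategory AlgebraicGeometry

universe u

namespace Groth.Agent.Krr.H482.PullTens

open scoped Groth.Agent.Dcoh.MonCat

variable {X Y : Scheme.{u}} (f : X ⟶ Y)

/-- `f^*(M ⊗ N) ≅ f^*M ⊗ f^*N`. -/
noncomputable def pullTensorIso (M N : Y.Modules) :
    (Scheme.Modules.pullback f).obj (((DCoh.tensorBi (X := Y)).obj M).obj N) ≅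
      ((DCoh.tensorBi (X := X)).obj ((Scheme.Modules.pullback f).obj M)).obj
        ((Scheme.Modules.pullback f).obj N) :=
  letI := Groth.Agent.Dcoh.MonPull.monPull f
  (Functor.Monoidal.μIso (Scheme.Modules.pullback f) M N).symm

/-- `f^* O_Y ≅ O_X`. -/
noncomputable def pullUnitIso :
    (Scheme.Modules.pullback f).obj (Coh.structureModule Y) ≅ Coh.structureModule X :=
  Groth.Agent.Fga.UnitRestrict.pullbackUnitIso f

end Groth.Agent.Krr.H482.PullTens
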