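import Groth.Agent.Krr.H482.PullLambda
import Groth.Agent.Krr.H482.PnSect
import Groth.Agent.Krr.H487.ExtPull

/-!
# γ-filtrations and sections of `P^n_Y`
-/

set_option autoImplicit false

open CategoryTheory CategoryTheory.Limits AlgebraicGeometry

universe v w u

namespace Groth.Agent.Krr.H482.PullFinal0

open KRR Groth.Agent.Krr.H482.LamAlg Groth.Agent.Krr.H482.PullLambda

variable {X Y : Scheme.{u}} {f : X ⟶ Y}
  {KX : Type v} [CommRing KX] [LambdaRing.LambdaOps KX] {PX : LambdaRing.PosStructure KX}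
  {φX : SGA6.Kvb X →+ KX}
  {KY : Type w} [CommRing KY] [LambdaRing.LambdaOps KY] {PY : LambdaRing.PosStructure KY}
  {φY : SGA6.Kvb Y →+ KY} {q : KY →+ KX}

/-- The pull-back commutes with the λ-operations, given the existence of exterior powers. -/
theorem commAt_pull0 (hKX : IsModel X KX PX φX) (hKY : IsModel Y KY PY φY) (hq : IsPull f φY φX q)
    (hextX : ∀ (i : ℕ) (E : X.Modules), FlatMod.IsFinLocFree E → ∃ L : X.Modules, ExtPow.IsExtPow i E L)
    (hextY : ∀ (i : ℕ) (E : Y.Modules), FlatMod.IsFinLocFree E → ∃ L : Y.Modules, ExtPow.IsExtPow i E L)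
    (x : KY) : CommAt (pullRingHom hKX hKY hq) x :=
  commAt_pull' hKX hKY hq hextY (fun i E L hE hL =>
    Groth.Agent.Krr.H487.ExtPull.isExtPow_pullback f hE hL
      (hextX i _ (isFinLocFree_pullback f hE))) x

end Groth.Agent.Krr.H482.PullFinal0
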