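import Groth.Agent.Divis.RegStalk
import Groth.Agent.Sga67.KosConormal
import Groth.Agent.CalgA.RegBasic
import Mathlib.RingTheory.KrullDimension.Regular
import Mathlib.RingTheory.KrullDimension.Field
import Mathlib.AlgebraicGeometry.FunctionField

/-!
# Integral closed subschemes of regular schemes are regularly immersed near their generic point

`exists_open`: for `X` Noetherian, `i : V ⟶ X` a closed immersion with `V` integral and the local ring of `X` at the image
`ξ` of the generic point regular of dimension `n`, there is an open `U` of `X` containing `ξ` and the complement of `V`,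
such that `V ∩ U ⟶ U` is a regular closed immersion with conormal sheaf finite locally free of rank `n`.
-/

set_option autoImplicit false

universe u v w

open CategoryTheory CategoryTheory.Limits AlgebraicGeometry Opposite TopologicalSpace
open RingTheory.Sequence IsLocalRing

namespace Groth.Agent.Krr.H482.RegSpread

open Groth.Agent.Divis.IdealComap Groth.Agent.Divis.RegImm Groth.Agent.Divis.RegStalk
open Groth.Agent.Sga67.KosImm Groth.Agent.Sga67.LocBasis

/-- The maximal ideal of a regular local ring is generated by a regular sequence. -/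
theorem exists_isRegular_maximalIdeal (R : Type u) [CommRing R] [IsRegularLocalRing R] (n : ℕ)
    (hn : ringKrullDim R = n) :
    ∃ rs : List R, rs.length = n ∧ IsRegular R rs ∧ maximalIdeal R = Ideal.ofList rs := by
  classical
  obtain ⟨s, t, -, -, -, h, hc⟩ := Groth.Agent.CalgA.RegBasic.exists_generators_adapted (R := R) ∅ (by simp)
  have hfr : (maximalIdeal R).spanFinrank = n := by
    have := IsRegularLocalRing.spanFinrank_maximalIdeal (R := R)
    rw [hn] at this
    exact_mod_cast this
  have hlen : (s.toList ++ t.toList).length = n := by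
    rw [List.length_append, Finset.length_toList, Finset.length_toList, hc, hfr]
  have hof : Ideal.ofList (s.toList ++ t.toList) = maximalIdeal R := by
    rw [← h, Ideal.ofList]
    congr 1
    ext y
    simp
  exact ⟨s.toList ++ t.toList, hlen,
    Groth.Agent.CalgA.RegBasic.isRegular_of_ofList_eq n R _ hlen hn hof, hof.symm⟩

/-- A regular sequence generating the maximal ideal has length the dimension. -/
theorem length_eq (R : Type u) [CommRing R] [IsLocalRing R] [IsNoetherianRing R] (n : ℕ)
    (hn : ringKrullDim R = n) (rs : List R) (hrs : IsWeaklyRegular R rs)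
    (h : maximalIdeal R = Ideal.ofList rs) : rs.length = n := by
  have hreg : IsRegular R rs := (isRegular_iff_ne_top rs).mpr ⟨hrs, by
    rw [← h]
    exact Ideal.IsPrime.ne_top'⟩
  have h1 := ringKrullDim_add_length_eq_ringKrullDim_of_isRegular rs hreg
  have h2 : ringKrullDim (R ⧸ Ideal.ofList rs) = 0 := by
    rw [← h]
    exact ringKrullDim_eq_zero_of_field (ResidueField R)
  rw [h2, zero_add, hn] at h1
  exact_mod_cast h1

variable {X V : Scheme.{u}} (i : V ⟶ X) [IsClosedImmersion i] [IsIntegral V]

/-- The kernel of the stalk map at the generic point is the maximal ideal. -/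
theorem ker_stalkMap_generic :
    RingHom.ker (i.stalkMap (genericPoint V)).hom = maximalIdeal (X.presheaf.stalk (i (genericPoint V))) := by
  have hf : IsField (V.presheaf.stalk (genericPoint V)) :=
    Field.toIsField V.functionField
  have hsurj : Function.Surjective (i.stalkMap (genericPoint V)).hom := i.stalkMap_surjective (genericPoint V)
  have hmax : (RingHom.ker (i.stalkMap (genericPoint V)).hom).IsMaximal := by
    let _ : Field (V.presheaf.stalk (genericPoint V)) := hf.toField
    exact RingHom.ker_isMaximal_of_surjective _ hsurj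
  exact IsLocalRing.eq_maximalIdeal hmax

/-- `V` is regularly immersed with `n` equations near its generic point. -/
theorem exists_affine [IsLocallyNoetherian X] (n : ℕ)
    (hreg : IsRegularLocalRing (X.presheaf.stalk (i (genericPoint V))))
    (hn : ringKrullDim (X.presheaf.stalk (i (genericPoint V))) = n) :
    ∃ U : X.affineOpens, i (genericPoint V) ∈ U.1 ∧ ∃ rs : List Γ(X, U.1), rs.length = n ∧
      IsWeaklyRegular Γ(X, U.1) rs ∧ i.ker.ideal U = Ideal.ofList rs := by
  obtain ⟨rs, -, hrs, hm⟩ := exists_isRegular_maximalIdeal (X.presheaf.stalk (i (genericPoint V))) n hn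
  obtain ⟨U, hxU, as, has, hI⟩ := (regAt_ker_iff i (genericPoint V)).mpr
    ⟨rs, hrs, (ker_stalkMap_generic i).trans hm⟩
  refine ⟨U, hxU, as, ?_, has, hI⟩
  let := X.presheaf.algebra_section_stalk ⟨i (genericPoint V), hxU⟩
  have := U.2.isLocalization_stalk ⟨i (genericPoint V), hxU⟩
  have h1 : IsWeaklyRegular (X.presheaf.stalk (i (genericPoint V)))
      (as.map (X.presheaf.germ U.1 (i (genericPoint V)) hxU).hom) :=
    has.of_isLocalization (X.presheaf.stalk (i (genericPoint V)))
      (U.2.primeIdealOf ⟨i (genericPoint V), hxU⟩).asIdeal.primeCompl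
  have h2 := length_eq (X.presheaf.stalk (i (genericPoint V))) n hn _ h1 (by
    rw [← ker_stalkMap_generic i, ker_stalkMap i (genericPoint V) U hxU, hI, Ideal.map_ofList])
  rwa [List.length_map] at h2

omit [IsIntegral V] in
/-- The kernel of a restriction to an open. -/
theorem ker_restrict (U : X.Opens) : (i ∣_ U).ker = i.ker.comap U.ι := by
  have h1 := Scheme.IdealSheafData.ker_fst_of_isClosedImmersion i U.ι
  rw [← h1]
  have h2 : (isPullback_morphismRestrict i U).isoPullback.hom ≫ pullback.fst U.ι i = i ∣_ U := by simp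
  rw [← h2, Scheme.Hom.ker_comp_of_isIso]

/-- (R): regular closed immersion with free conormal sheaf of rank `n` after removing a closed subset of `V` not
containing the generic point. -/
theorem exists_open_free [IsLocallyNoetherian X] (n : ℕ)
    (hreg : IsRegularLocalRing (X.presheaf.stalk (i (genericPoint V))))
    (hn : ringKrullDim (X.presheaf.stalk (i (genericPoint V))) = n) :
    ∃ U : X.Opens, i (genericPoint V) ∈ U ∧ (∀ x : X, x ∉ U → x ∈ Set.range i) ∧
      Mor2.IsRegularClosedImmersion (i ∣_ U) ∧
      FlatMod.IsFinLocFreeOfRank n (Omega.conormal (i ∣_ U)) ∧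
      Nonempty (Omega.conormal (i ∣_ U) ≅ FlatMod.freeMod (i ⁻¹ᵁ U).toScheme n) := by
  obtain ⟨U₀, hξ, rs, hlen, hrs, hI⟩ := exists_affine i n hreg hn
  let C : X.Opens := ⟨(Set.range i)ᶜ, i.isClosedEmbedding.isClosed_range.isOpen_compl⟩
  have hC : ∀ x : X, x ∈ C ↔ x ∉ Set.range i := fun x => Iff.rfl
  let U : X.Opens := C ⊔ U₀.1
  have hle : U₀.1 ≤ U := le_sup_right
  have hmem : ∀ z : V, i z ∈ U → i z ∈ U₀.1 := by
    intro z hz
    rcases hz with h | h
    · exact absurd ⟨z, rfl⟩ h
    · exact h
  -- the chart of `i ∣_ U`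
  have hWaff : IsAffineOpen (U.ι ⁻¹ᵁ U₀.1) :=
    U₀.2.preimage_of_isOpenImmersion U.ι (by rw [Scheme.Opens.opensRange_ι]; exact hle)
  let c : Chart (i ∣_ U) :=
    { U := U.ι ⁻¹ᵁ U₀.1
      hU := hWaff
      l := rs.map (U.ι.appLE U₀.1 (U.ι ⁻¹ᵁ U₀.1) le_rfl).hom
      hl := isWeaklyRegular_map_of_flat _ (Scheme.Hom.flat_appLE U.ι U₀.2 hWaff le_rfl) hrs
      hker := by
        rw [ker_restrict i U, ideal_comap i.ker U.ι U₀ ⟨U.ι ⁻¹ᵁ U₀.1, hWaff⟩ le_rfl, hI, Ideal.map_ofList] }
  have hcl : c.l.length = n := by
    rw [← hlen]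
    exact List.length_map _
  have hcV : ∀ z : (i ⁻¹ᵁ U).toScheme, z ∈ c.V := by
    intro z
    change (i ∣_ U) z ∈ U.ι ⁻¹ᵁ U₀.1
    change U.ι ((i ∣_ U) z) ∈ U₀.1
    have h3 : U.ι ((i ∣_ U) z) = i z.1 := morphismRestrict_base_coe i U z
    rw [h3]
    exact hmem z.1 z.2
  have hbas := Groth.Agent.Sga67.KosConormal.isLocBasis_fN c
  refine ⟨U, hle hξ, ?_, ?_, ?_, ?_⟩
  · intro x hx
    by_contra h
    exact hx (Or.inl h)
  · rw [isRegularClosedImmersion_iff]
    refine ⟨inferInstance, fun z => ?_⟩
    rw [regAt_ker_restrict_iff i U z]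
    exact ⟨U₀, hmem z.1 z.2, rs, hrs, hI⟩
  · intro z
    refine ⟨c.V, hcV z, ?_⟩
    rw [← hcl]
    exact nonempty_restrict_iso_iff.mpr ⟨_, hbas⟩
  · have htop : c.V = ⊤ := by
      ext z
      exact ⟨fun _ => trivial, fun _ => hcV z⟩
    rw [← hcl]
    exact nonempty_iso_free (hbas.restrict (V := ⊤) htop.ge)

/-- (R): regular closed immersion of codimension `n` after removing a closed subset of `V` not containing the generic
point. -/
theorem exists_open [IsLocallyNoetherian X] (n : ℕ)
    (hreg : IsRegularLocalRing (X.presheaf.stalk (i (genericPoint V))))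
    (hn : ringKrullDim (X.presheaf.stalk (i (genericPoint V))) = n) :
    ∃ U : X.Opens, i (genericPoint V) ∈ U ∧ (∀ x : X, x ∉ U → x ∈ Set.range i) ∧
      Mor2.IsRegularClosedImmersion (i ∣_ U) ∧ FlatMod.IsFinLocFreeOfRank n (Omega.conormal (i ∣_ U)) := by
  obtain ⟨U, h1, h2, h3, h4, -⟩ := exists_open_free i n hreg hn
  exact ⟨U, h1, h2, h3, h4⟩

end Groth.Agent.Krr.H482.RegSpread
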